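import Mathlib.Algebra.Homology.ShortComplex.ShortExact
import Mathlib.Algebra.Homology.ShortComplex.Abelian
import Mathlib.CategoryTheory.Abelian.Refinements
import Mathlib.CategoryTheory.Subobject.Limits
import Mathlib.CategoryTheory.Subobject.Basic

universe v u

open CategoryTheory CategoryTheory.Limits

namespace Groth.Agent.HomAlgNine

variable {C : Type u} [Category.{v} C] [Abelian C] {A₁ A₂ A₃ B₂ C₁ C₂ C₃ : C}

/-- From a row `A₁ → B₁ → C₁` over the data, the cokernel column completes the nine diagram. -/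
lemma coker_row
    (i₁ : A₁ ⟶ A₂) (p₁ : A₂ ⟶ A₃) (wA : i₁ ≫ p₁ = 0) (hA : (ShortComplex.mk i₁ p₁ wA).ShortExact)
    (i₂ : A₂ ⟶ B₂) (π₂ : B₂ ⟶ C₂) (wB : i₂ ≫ π₂ = 0) (hB : (ShortComplex.mk i₂ π₂ wB).ShortExact)
    (j : C₁ ⟶ C₂) (q : C₂ ⟶ C₃) (wC : j ≫ q = 0) (hC : (ShortComplex.mk j q wC).ShortExact)
    {B₁ : C} (b : B₁ ⟶ B₂) [Mono b] (a : A₁ ⟶ B₁) (c : B₁ ⟶ C₁) (wac : a ≫ c = 0)
    (hac : (ShortComplex.mk a c wac).ShortExact)
    (ha : a ≫ b = i₁ ≫ i₂) (hc : c ≫ j = b ≫ π₂) :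
    ∃ (a' : A₃ ⟶ cokernel b) (c' : cokernel b ⟶ C₃) (wac' : a' ≫ c' = 0),
      p₁ ≫ a' = i₂ ≫ cokernel.π b ∧ cokernel.π b ≫ c' = π₂ ≫ q ∧
        (ShortComplex.mk a' c' wac').ShortExact := by
  have : Mono i₂ := hB.mono_f
  have : Epi π₂ := hB.epi_g
  have : Mono i₁ := hA.mono_f
  have : Epi p₁ := hA.epi_g
  have : Mono j := hC.mono_f
  have : Epi q := hC.epi_g
  have : Mono a := hac.mono_f
  have : Epi c := hac.epi_g
  have h1 : i₁ ≫ (i₂ ≫ cokernel.π b) = 0 := by
    rw [← Category.assoc, ← ha, Category.assoc, cokernel.condition, comp_zero]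
  obtain ⟨a', ha'⟩ := hA.exact.desc' (i₂ ≫ cokernel.π b) h1
  have h2 : b ≫ (π₂ ≫ q) = 0 := by
    rw [← Category.assoc, ← hc, Category.assoc, wC, comp_zero]
  have hc' : cokernel.π b ≫ cokernel.desc b (π₂ ≫ q) h2 = π₂ ≫ q := cokernel.π_desc _ _ _
  generalize hgen : cokernel.desc b (π₂ ≫ q) h2 = c' at hc'
  change p₁ ≫ a' = _ at ha'
  have wac' : a' ≫ c' = 0 := by
    rw [← cancel_epi p₁, comp_zero, reassoc_of% ha', hc', reassoc_of% wB, zero_comp]
  have hepi : Epi c' := by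
    have : Epi (cokernel.π b ≫ c') := by rw [hc']; infer_instance
    exact epi_of_epi (cokernel.π b) c'
  have bker : ∀ {T : C} (x : T ⟶ B₂), x ≫ cokernel.π b = 0 → ∃ y : T ⟶ B₁, y ≫ b = x := by
    intro T x hx
    exact ⟨(Abelian.monoIsKernelOfCokernel _ (cokernelIsCokernel b)).lift (KernelFork.ofι x hx),
      Fork.IsLimit.lift_ι _⟩
  have hmono : Mono a' := by
    rw [Preadditive.mono_iff_cancel_zero]
    intro T t ht
    obtain ⟨T', e, _, x, hx⟩ := surjective_up_to_refinements_of_epi p₁ t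
    obtain ⟨y, hy⟩ := bker (x ≫ i₂) (by
      rw [Category.assoc, ← ha', ← Category.assoc, ← hx, Category.assoc, ht, comp_zero])
    have hyc : y ≫ c = 0 := by
      rw [← cancel_mono j, zero_comp, Category.assoc, hc, ← Category.assoc, hy, Category.assoc,
        wB, comp_zero]
    obtain ⟨z, hz⟩ := hac.exact.lift' y hyc
    change z ≫ a = y at hz
    have hxz : x = z ≫ i₁ := by
      rw [← cancel_mono i₂, Category.assoc, ← ha, ← Category.assoc, hz, hy]
    rw [← cancel_epi e, comp_zero, hx, hxz, Category.assoc, wA, comp_zero]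
  refine ⟨a', c', wac', ha', hc', ?_⟩
  have hex : (ShortComplex.mk a' c' wac').Exact := by
    rw [ShortComplex.exact_iff_exact_up_to_refinements]
    intro T t ht
    change t ≫ c' = 0 at ht
    obtain ⟨T', e, _, x, hx⟩ := surjective_up_to_refinements_of_epi (cokernel.π b) t
    have hxq : (x ≫ π₂) ≫ q = 0 := by
      rw [Category.assoc, ← hc', ← Category.assoc, ← hx, Category.assoc, ht, comp_zero]
    obtain ⟨u, hu⟩ := hC.exact.lift' (x ≫ π₂) hxq
    change u ≫ j = x ≫ π₂ at hu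
    obtain ⟨T'', e', _, v, hv⟩ := surjective_up_to_refinements_of_epi c u
    have hxv : (e' ≫ x - v ≫ b) ≫ π₂ = 0 := by
      rw [Preadditive.sub_comp, Category.assoc, Category.assoc, ← hu, ← hc,
        ← Category.assoc v, ← hv, Category.assoc, sub_self]
    obtain ⟨w, hw⟩ := hB.exact.lift' (e' ≫ x - v ≫ b) hxv
    change w ≫ i₂ = _ at hw
    refine ⟨T'', e' ≫ e, inferInstance, w ≫ p₁, ?_⟩
    change (e' ≫ e) ≫ t = (w ≫ p₁) ≫ a'
    rw [Category.assoc w, ha', ← Category.assoc w, hw, Preadditive.sub_comp, Category.assoc v,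
      cokernel.condition, comp_zero, sub_zero, Category.assoc, hx, Category.assoc]
  exact { exact := hex }

/-- The bijection between sections and nine-diagram subobjects. -/
theorem main
    (i₁ : A₁ ⟶ A₂) (p₁ : A₂ ⟶ A₃) (wA : i₁ ≫ p₁ = 0) (hA : (ShortComplex.mk i₁ p₁ wA).ShortExact)
    (i₂ : A₂ ⟶ B₂) (π₂ : B₂ ⟶ C₂) (wB : i₂ ≫ π₂ = 0) (hB : (ShortComplex.mk i₂ π₂ wB).ShortExact)
    (j : C₁ ⟶ C₂) (q : C₂ ⟶ C₃) (wC : j ≫ q = 0) (hC : (ShortComplex.mk j q wC).ShortExact)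
    (w : (i₁ ≫ i₂) ≫ (π₂ ≫ q) = 0) (h₃ : (i₁ ≫ i₂) ≫ π₂ = 0)
    (g : (ShortComplex.mk (i₁ ≫ i₂) (π₂ ≫ q) w).homology ⟶ C₁)
    (hg : g ≫ j = (ShortComplex.mk (i₁ ≫ i₂) (π₂ ≫ q) w).homologyι ≫
      (ShortComplex.mk (i₁ ≫ i₂) (π₂ ≫ q) w).descOpcycles π₂ h₃) :
    (∀ B₁ : Subobject B₂,
      (∃ (a : A₁ ⟶ (B₁ : C)) (c : (B₁ : C) ⟶ C₁) (wac : a ≫ c = 0)
         (a' : A₃ ⟶ cokernel B₁.arrow) (c' : cokernel B₁.arrow ⟶ C₃) (wac' : a' ≫ c' = 0),
         a ≫ B₁.arrow = i₁ ≫ i₂ ∧ c ≫ j = B₁.arrow ≫ π₂ ∧ (ShortComplex.mk a c wac).ShortExact ∧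
         p₁ ≫ a' = i₂ ≫ cokernel.π B₁.arrow ∧ cokernel.π B₁.arrow ≫ c' = π₂ ≫ q ∧
         (ShortComplex.mk a' c' wac').ShortExact) ↔
      ∃ s : C₁ ⟶ (ShortComplex.mk (i₁ ≫ i₂) (π₂ ≫ q) w).homology, s ≫ g = 𝟙 C₁ ∧
        (Subobject.map (ShortComplex.mk (i₁ ≫ i₂) (π₂ ≫ q) w).iCycles).obj
          ((Subobject.pullback (ShortComplex.mk (i₁ ≫ i₂) (π₂ ≫ q) w).homologyπ).obj
            (imageSubobject s)) = B₁) ∧
    (∀ s s' : C₁ ⟶ (ShortComplex.mk (i₁ ≫ i₂) (π₂ ≫ q) w).homology,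
      s ≫ g = 𝟙 C₁ → s' ≫ g = 𝟙 C₁ →
      (Subobject.map (ShortComplex.mk (i₁ ≫ i₂) (π₂ ≫ q) w).iCycles).obj
          ((Subobject.pullback (ShortComplex.mk (i₁ ≫ i₂) (π₂ ≫ q) w).homologyπ).obj
            (imageSubobject s)) =
        (Subobject.map (ShortComplex.mk (i₁ ≫ i₂) (π₂ ≫ q) w).iCycles).obj
          ((Subobject.pullback (ShortComplex.mk (i₁ ≫ i₂) (π₂ ≫ q) w).homologyπ).obj
            (imageSubobject s')) → s = s') := by
  have : Mono i₂ := hB.mono_f
  have : Mono i₁ := hA.mono_f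
  have : Mono j := hC.mono_f
  revert g
  let S := ShortComplex.mk (i₁ ≫ i₂) (π₂ ≫ q) w
  intro (g : S.homology ⟶ C₁) (hg : g ≫ j = S.homologyι ≫ S.descOpcycles π₂ h₃)
  have : Mono S.f := mono_comp i₁ i₂
  have hZ : S.homologyπ ≫ g ≫ j = S.iCycles ≫ π₂ := by
    rw [hg, S.homology_π_ι_assoc, ShortComplex.p_descOpcycles]
  have tmono : Mono S.toCycles := by
    have : Mono (S.toCycles ≫ S.iCycles) := by rw [S.toCycles_i]; infer_instance
    exact mono_of_mono S.toCycles S.iCycles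
  have hZex : (ShortComplex.mk S.toCycles S.homologyπ S.toCycles_comp_homologyπ).Exact :=
    ShortComplex.exact_of_g_is_cokernel _ S.homologyIsCokernel
  -- the subobject of a section, concretely
  have hsub : ∀ (s : C₁ ⟶ S.homology) [Mono s],
      (Subobject.map S.iCycles).obj ((Subobject.pullback S.homologyπ).obj (imageSubobject s)) =
        Subobject.mk (pullback.fst S.homologyπ s ≫ S.iCycles) := by
    intro s _
    rw [imageSubobject_mono,
      Subobject.pullback_obj_mk (IsPullback.of_hasPullback S.homologyπ s).flip, Subobject.map_mk]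
  have hmono : ∀ (s : C₁ ⟶ S.homology), s ≫ g = 𝟙 C₁ → Mono s := fun s hs =>
    SplitMono.mono ⟨g, hs⟩
  -- forward: the row of a section
  have hrow : ∀ (s : C₁ ⟶ S.homology), s ≫ g = 𝟙 C₁ →
      ∃ (a : A₁ ⟶ pullback S.homologyπ s) (wac : a ≫ pullback.snd S.homologyπ s = 0),
        a ≫ pullback.fst S.homologyπ s ≫ S.iCycles = i₁ ≫ i₂ ∧
        pullback.snd S.homologyπ s ≫ j = (pullback.fst S.homologyπ s ≫ S.iCycles) ≫ π₂ ∧
        (ShortComplex.mk a (pullback.snd S.homologyπ s) wac).ShortExact := by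
    intro s hs
    have := hmono s hs
    let a : A₁ ⟶ pullback S.homologyπ s :=
      pullback.lift S.toCycles 0 (by rw [S.toCycles_comp_homologyπ, zero_comp])
    have ha1 : a ≫ pullback.fst S.homologyπ s = S.toCycles := pullback.lift_fst _ _ _
    have ha2 : a ≫ pullback.snd S.homologyπ s = 0 := pullback.lift_snd _ _ _
    refine ⟨a, ha2, ?_, ?_, ?_⟩
    · rw [← Category.assoc, ha1]; exact S.toCycles_i
    · rw [Category.assoc, ← hZ, ← Category.assoc, pullback.condition, Category.assoc,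
        ← Category.assoc s, hs, Category.id_comp]
    · have : Mono a := by
        have : Mono (a ≫ pullback.fst S.homologyπ s) := by rw [ha1]; infer_instance
        exact mono_of_mono a (pullback.fst S.homologyπ s)
      refine { exact := ?_ }
      refine ShortComplex.exact_of_f_is_kernel _ (KernelFork.IsLimit.ofι' _ _ fun t ht => ?_)
      have h0 : (t ≫ pullback.fst S.homologyπ s) ≫ S.homologyπ = 0 := by
        rw [Category.assoc, pullback.condition, ← Category.assoc, ht, zero_comp]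
      refine ⟨hZex.lift _ h0, ?_⟩
      apply pullback.hom_ext
      · rw [Category.assoc]
        change hZex.lift _ h0 ≫ a ≫ pullback.fst S.homologyπ s = _
        rw [ha1]
        exact hZex.lift_f _ h0
      · rw [Category.assoc]
        change hZex.lift _ h0 ≫ a ≫ pullback.snd S.homologyπ s = _
        rw [ha2, comp_zero, ht]
  refine ⟨fun B₁ => ⟨?_, ?_⟩, ?_⟩
  · rintro ⟨a, c, wac, -, -, -, ha, hc, hac, -, -, -⟩
    have : Epi c := hac.epi_g
    have hb : B₁.arrow ≫ S.g = 0 := by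
      change B₁.arrow ≫ π₂ ≫ q = 0
      rw [← Category.assoc, ← hc, Category.assoc, wC, comp_zero]
    let b' := S.liftCycles B₁.arrow hb
    have hb' : b' ≫ S.iCycles = B₁.arrow := S.liftCycles_i _ _
    have hab : a ≫ b' = S.toCycles := by
      rw [← cancel_mono S.iCycles, Category.assoc, hb', ha, S.toCycles_i]
    obtain ⟨(s : C₁ ⟶ S.homology), hs'⟩ := hac.exact.desc' (b' ≫ S.homologyπ) (by
      change a ≫ b' ≫ S.homologyπ = 0
      rw [← Category.assoc, hab, S.toCycles_comp_homologyπ])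
    change c ≫ s = b' ≫ S.homologyπ at hs'
    have hs : s ≫ g = 𝟙 C₁ := by
      rw [← cancel_epi c, ← cancel_mono j, Category.comp_id, Category.assoc, Category.assoc,
        ← Category.assoc c, hs', Category.assoc, hZ, ← Category.assoc, hb', hc]
    have := hmono s hs
    refine ⟨s, hs, ?_⟩
    obtain ⟨a₀, wac₀, ha₀, hc₀, hac₀⟩ := hrow s hs
    let φ : (B₁ : C) ⟶ pullback S.homologyπ s := pullback.lift b' c hs'.symm
    have hφ1 : φ ≫ pullback.fst S.homologyπ s = b' := pullback.lift_fst _ _ _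
    have hφ2 : φ ≫ pullback.snd S.homologyπ s = c := pullback.lift_snd _ _ _
    have h12 : a ≫ φ = a₀ := by
      have : Mono (pullback.fst S.homologyπ s ≫ S.iCycles) := inferInstance
      rw [← cancel_mono (pullback.fst S.homologyπ s ≫ S.iCycles), ha₀, ← ha, ← hb']
      simp [reassoc_of% hφ1]
    have hiso : IsIso φ := by
      let Φ : ShortComplex.mk a c wac ⟶
          ShortComplex.mk a₀ (pullback.snd S.homologyπ s) wac₀ :=
        { τ₁ := 𝟙 _
          τ₂ := φ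
          τ₃ := 𝟙 _
          comm₁₂ := by simp [h12]
          comm₂₃ := by simp [hφ2] }
      have : IsIso Φ.τ₁ := inferInstanceAs (IsIso (𝟙 A₁))
      have : IsIso Φ.τ₃ := inferInstanceAs (IsIso (𝟙 C₁))
      exact ShortComplex.isIso₂_of_shortExact_of_isIso₁₃ Φ hac hac₀
    rw [hsub s, ← Subobject.mk_arrow B₁]
    symm
    exact Subobject.mk_eq_mk_of_comm _ _ (asIso φ) (by simp [reassoc_of% hφ1, hb'])
  · rintro ⟨s, hs, rfl⟩
    have := hmono s hs
    rw [hsub s]
    obtain ⟨a₀, wac₀, ha₀, hc₀, hac₀⟩ := hrow s hs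
    have : Mono (pullback.fst S.homologyπ s ≫ S.iCycles) := inferInstance
    let b := pullback.fst S.homologyπ s ≫ S.iCycles
    change ∃ (a : A₁ ⟶ (Subobject.mk b : C)) (c : (Subobject.mk b : C) ⟶ C₁) (wac : a ≫ c = 0)
      (a' : A₃ ⟶ cokernel (Subobject.mk b).arrow) (c' : cokernel (Subobject.mk b).arrow ⟶ C₃)
      (wac' : a' ≫ c' = 0), a ≫ (Subobject.mk b).arrow = i₁ ≫ i₂ ∧
        c ≫ j = (Subobject.mk b).arrow ≫ π₂ ∧ (ShortComplex.mk a c wac).ShortExact ∧
        p₁ ≫ a' = i₂ ≫ cokernel.π (Subobject.mk b).arrow ∧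
        cokernel.π (Subobject.mk b).arrow ≫ c' = π₂ ≫ q ∧ (ShortComplex.mk a' c' wac').ShortExact
    change a₀ ≫ b = _ at ha₀
    change _ = b ≫ π₂ at hc₀
    let e := Subobject.underlyingIso b
    have he : e.hom ≫ b = (Subobject.mk b).arrow := Subobject.underlyingIso_hom_comp_eq_mk b
    have he' : e.inv ≫ (Subobject.mk b).arrow = b := Subobject.underlyingIso_arrow b
    have w2 : (a₀ ≫ e.inv) ≫ (e.hom ≫ pullback.snd S.homologyπ s) = 0 := by simp [wac₀]
    let E : ShortComplex.mk a₀ (pullback.snd S.homologyπ s) wac₀ ≅ ShortComplex.mk _ _ w2 :=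
      ShortComplex.isoMk (Iso.refl _) e.symm (Iso.refl _) (by simp) (by simp)
    have hac : (ShortComplex.mk _ _ w2).ShortExact := ShortComplex.shortExact_of_iso E hac₀
    have ha : (a₀ ≫ e.inv) ≫ (Subobject.mk b).arrow = i₁ ≫ i₂ := by
      rw [Category.assoc, he', ha₀]
    have hc : (e.hom ≫ pullback.snd S.homologyπ s) ≫ j = (Subobject.mk b).arrow ≫ π₂ := by
      rw [Category.assoc, hc₀, ← Category.assoc, he]
    obtain ⟨a', c', wac', ha', hc', hac'⟩ :=
      coker_row i₁ p₁ wA hA i₂ π₂ wB hB j q wC hC _ _ _ w2 hac ha hc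
    exact ⟨_, _, w2, a', c', wac', ha, hc, hac, ha', hc', hac'⟩
  · intro s s' hs hs' heq
    have := hmono s hs
    have := hmono s' hs'
    rw [hsub s, hsub s'] at heq
    obtain ⟨a₀, wac₀, ha₀, hc₀, hac₀⟩ := hrow s hs
    obtain ⟨a₁, wac₁, ha₁, hc₁, hac₁⟩ := hrow s' hs'
    have hepi : Epi (pullback.snd S.homologyπ s) := hac₀.epi_g
    let e := Subobject.isoOfMkEqMk _ _ heq
    have he : e.hom ≫ pullback.fst S.homologyπ s' ≫ S.iCycles =
        pullback.fst S.homologyπ s ≫ S.iCycles := Subobject.ofMkLEMk_comp _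
    have he1 : e.hom ≫ pullback.fst S.homologyπ s' = pullback.fst S.homologyπ s := by
      rw [← cancel_mono S.iCycles, Category.assoc, he]
    have he2 : e.hom ≫ pullback.snd S.homologyπ s' = pullback.snd S.homologyπ s := by
      rw [← cancel_mono j, Category.assoc, hc₁, hc₀, ← Category.assoc, he]
    rw [← cancel_epi (pullback.snd S.homologyπ s), ← pullback.condition]
    conv_rhs => rw [← he2, Category.assoc, ← pullback.condition, ← Category.assoc, he1]

end Groth.Agent.HomAlgNine
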